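import Groth.Agent.GrpdDimOne12.NormClosed
import Groth.Agent.GrpdLib.OrbitTop
import Groth.Agent.S0217
import Groth.Agent.S7464

/-!
# Invariant affine opens around orbits with one-dimensional local rings
-/

set_option autoImplicit false
set_option backward.isDefEq.respectTransparency false
set_option backward.isDefEq.respectTransparency.types false

universe u

open CategoryTheory CategoryTheory.Limits AlgebraicGeometry Grpd

namespace Groth.Agent.GrpdDimOne12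

open GrpdLib

theorem not_two_generizations {X : Scheme.{u}} {x z y : X} (hdim : ringKrullDim (X.presheaf.stalk x) ≤ 1)
    (h₁ : z ⤳ x) (hzx : z ≠ x) (h₂ : y ⤳ z) : y = z := by
  by_contra hyz
  rw [ringKrullDim_stalk_eq_coheight] at hdim
  have hle : Order.coheight x ≤ 1 := by exact_mod_cast hdim
  have e₁ : x < z := lt_iff_le_not_ge.2 ⟨Scheme.le_iff_specializes.2 h₁,
    fun h => hzx (h₁.antisymm (Scheme.le_iff_specializes.1 h)).eq⟩
  have e₂ : z < y := lt_iff_le_not_ge.2 ⟨Scheme.le_iff_specializes.2 h₂,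
    fun h => hyz (h₂.antisymm (Scheme.le_iff_specializes.1 h)).eq⟩
  have := (add_le_add_left (Order.coheight_add_one_le e₂) 1).trans ((Order.coheight_add_one_le e₁).trans hle)
  have h2 : (2 : ℕ∞) ≤ 1 := by
    refine le_trans ?_ this
    calc (2 : ℕ∞) = 0 + 1 + 1 := by norm_num
      _ ≤ Order.coheight y + 1 + 1 := by gcongr; exact bot_le
  norm_num at h2

theorem finite_maximalPoints {X : Scheme.{u}} [IsLocallyNoetherian X] {W : X.Opens} (hW : IsAffineOpen W) :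
    {x : X | x ∈ W ∧ ∀ y : X, y ⤳ x → y = x}.Finite := by
  haveI : IsNoetherianRing Γ(X, W) := IsLocallyNoetherian.component_noetherian ⟨W, hW⟩
  refine Set.Finite.subset (((minimalPrimes.finite_of_isNoetherianRing Γ(X, W)).preimage
    (f := fun p : PrimeSpectrum Γ(X, W) => p.asIdeal) (fun a _ b _ h => PrimeSpectrum.ext h)).image hW.fromSpec) ?_
  rintro x ⟨hx, hmax⟩
  refine ⟨hW.primeIdealOf ⟨x, hx⟩, ⟨⟨(hW.primeIdealOf ⟨x, hx⟩).isPrime, bot_le⟩, fun q hq hle => ?_⟩,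
    hW.fromSpec_primeIdealOf _⟩
  have h := ((PrimeSpectrum.le_iff_specializes ⟨q, hq.1⟩ (hW.primeIdealOf ⟨x, hx⟩)).1 hle).map hW.fromSpec.continuous
  rw [hW.fromSpec_primeIdealOf] at h
  have e : (⟨q, hq.1⟩ : PrimeSpectrum Γ(X, W)) = hW.primeIdealOf ⟨x, hx⟩ :=
    hW.fromSpec.isOpenEmbedding.injective (by rw [hW.fromSpec_primeIdealOf]; exact hmax _ h)
  exact (congrArg PrimeSpectrum.asIdeal e).ge

theorem finite_irreducibleComponents_of_isCompact {X : Scheme.{u}} [IsLocallyNoetherian X] (U : X.Opens)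
    (hU : IsCompact (U : Set X)) : (irreducibleComponents (U : Set X)).Finite := by
  haveI : CompactSpace U.toScheme := isCompact_iff_compactSpace.1 hU
  haveI : IsLocallyNoetherian U.toScheme := isLocallyNoetherian_of_isOpenImmersion U.ι
  haveI : IsNoetherian U.toScheme := {}
  exact TopologicalSpace.NoetherianSpace.finite_irreducibleComponents (α := U.toScheme)

theorem exists_invariant_affine {S : Scheme.{u}} (G : GroupoidScheme S) [IsFinite G.s] [IsFinite G.t]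
    [G.U.IsSeparated] [IsLocallyNoetherian G.U] (u : G.U)
    (hdim : ∀ r : G.R, G.s r = u → ringKrullDim (G.U.presheaf.stalk (G.t r)) ≤ 1) :
    ∃ W : G.U.Opens, IsAffineOpen W ∧ u ∈ W ∧ IsInv G W := by
  classical
  -- the orbit
  let O : Set G.U := G.t '' (G.s ⁻¹' {u})
  have hO : O.Finite := (G.s.finite_preimage_singleton u).image _
  have hse : ∀ x, G.s (G.e x) = x := fun x => by rw [← Scheme.Hom.comp_apply, G.e_s]; rfl
  have hte : ∀ x, G.t (G.e x) = x := fun x => by rw [← Scheme.Hom.comp_apply, G.e_t]; rfl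
  have huO : u ∈ O := ⟨G.e u, hse u, hte u⟩
  have horb : ∀ r : G.R, G.s r ∈ O → G.t r ∈ O := fun r ⟨r', hr', e⟩ => by
    obtain ⟨r'', h₁, h₂⟩ := exists_comp G r r' e.symm
    exact ⟨r'', h₂.trans hr', h₁⟩
  have horb' : ∀ r : G.R, G.t r ∈ O → G.s r ∈ O := fun r hr => by
    obtain ⟨r', h₁, h₂⟩ := exists_inv G r
    have := horb r' (by rw [h₂]; exact hr)
    rwa [h₁] at this
  have hdim' : ∀ x ∈ O, ringKrullDim (G.U.presheaf.stalk x) ≤ 1 := fun x ⟨r, hr, e⟩ => e ▸ hdim r hr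
  have hnospec : ∀ x ∈ O, ∀ y ∈ O, x ⤳ y → x = y := by
    rintro x ⟨r, hr, rfl⟩ y ⟨r', hr', rfl⟩ hxy
    by_contra hne
    obtain ⟨ri, h₁, h₂⟩ := exists_inv G r
    obtain ⟨q, hq₁, hq₂⟩ := exists_comp G r' ri (by rw [h₁]; exact hr'.trans hr.symm)
    exact Groth.Agent.S7464.result S G q (by rw [hq₂, h₂, hq₁]; exact hne) (by rw [hq₂, h₂, hq₁]; exact hxy)
  obtain ⟨W, hW, hOW⟩ := Groth.Agent.S0217.result G.U (fun U hU => finite_irreducibleComponents_of_isCompact U hU)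
    hO.toFinset fun x hx => ⟨inferInstance, hdim' x (hO.mem_toFinset.1 hx)⟩
  let X : G.U.Opens := invCore G W
  have hX : IsInv G X := isInv_invCore W
  have hOX : O ⊆ X := fun x hx => mem_invCore.2 fun r hr => hOW _ (hO.mem_toFinset.2 (horb r (hr ▸ hx)))
  -- the strict generizations of the orbit
  let M : Set G.U := {η | η ∉ O ∧ ∃ x ∈ O, η ⤳ x}
  have hMmax : ∀ η ∈ M, ∀ y, y ⤳ η → y = η := fun η ⟨hη, x, hx, h⟩ y hy =>
    not_two_generizations (hdim' x hx) h (fun e => hη (e ▸ hx)) hy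
  have hMX : M ⊆ X := fun η ⟨_, x, hx, h⟩ => h.mem_open X.isOpen (hOX hx)
  have hMfin : M.Finite := (finite_maximalPoints hW).subset fun η hη => ⟨invCore_le W (hMX hη), hMmax η hη⟩
  have hMorb : ∀ r : G.R, G.s r ∈ M → G.t r ∈ M := fun r ⟨hη, x, hx, h⟩ => by
    obtain ⟨r', hr', e⟩ := G.s.isClosedMap.specializingMap h
    exact ⟨fun ht => hη (horb' r ht), G.t r', horb r' (by rw [e]; exact hx), hr'.map G.t.continuous⟩
  -- an invariant affine open containing them, with norms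
  obtain ⟨q₁, hMV, hVX, hVinv, hnorm⟩ := exists_invTrace hW hX (invCore_le W) isClosed_univ (fun _ _ => trivial)
    hMfin hMorb hMX (Set.subset_univ M) (fun η hη y _ hy => hMmax η hη y hy)
  set V := G.U.basicOpen q₁ with hVdef
  have hV : IsInv G V := isInv_of_mem fun r hr => hVinv r trivial hr
  by_cases hmeet : ∃ x ∈ O, x ∈ V
  · obtain ⟨x, ⟨r, hr, rfl⟩, hx⟩ := hmeet
    exact ⟨V, hW.basicOpen q₁, hr ▸ (hV.mem_iff r).2 hx, hV⟩
  push Not at hmeet
  -- a basic open around the orbit invariant on the complement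
  let Z : Set G.U := (V : Set G.U)ᶜ
  obtain ⟨q₂, hOQ, hQX, hQinv, -⟩ := exists_invTrace hW hX (invCore_le W) (Z := Z) V.isOpen.isClosed_compl
    (fun r hr ht => hr ((hV.mem_iff r).2 ht)) hO horb hOX (fun x hx => hmeet x hx) (fun x hx y hy hyx => by
      by_contra hne
      exact hy (hMV ⟨fun hyO => hne (hnospec y hyO x hx hyx), x, hx, hyx⟩))
  set Q := G.U.basicOpen q₂ with hQdef
  let Ω : G.U.Opens := invCore G Q
  refine ⟨Ω, ?_, mem_invCore.2 fun r hr => hOQ ⟨r, hr, rfl⟩, isInv_invCore Q⟩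
  obtain ⟨a, ha⟩ := hnorm q₂
  have hΩV : ∀ w ∈ V, (w ∈ Ω ↔ w ∈ G.U.basicOpen a) := fun w hw => mem_invCore.trans (ha w hw trivial).symm
  have hΩZ : ∀ w ∈ Q, w ∉ V → w ∈ Ω := fun w hw hwV => mem_invCore.2 fun r hr => by
    subst hr
    exact hQinv r hwV hw
  have hΩQ : Ω ≤ Q := invCore_le Q
  have hQ : IsAffineOpen Q := hW.basicOpen q₂
  -- cover `Q` by basic opens inside `Ω` or inside `V`
  have hcov : ∀ w : Q, ∃ φ : Γ(G.U, Q), w.1 ∈ G.U.basicOpen φ ∧ IsAffineOpen (Ω ⊓ G.U.basicOpen φ) := by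
    intro w
    by_cases hw : w.1 ∈ V
    · obtain ⟨φ, hφ, hwφ⟩ := hQ.exists_basicOpen_le (V := V) ⟨w.1, hw⟩ w.2
      refine ⟨φ, hwφ, ?_⟩
      have e : Ω ⊓ G.U.basicOpen φ = G.U.basicOpen (φ * G.U.presheaf.map (homOfLE (hQX.trans (invCore_le W))).op a) := by
        rw [Scheme.basicOpen_mul, Scheme.basicOpen_res]
        ext y
        exact ⟨fun ⟨h₁, h₂⟩ => ⟨h₂, hΩQ h₁, (hΩV y (hφ h₂)).1 h₁⟩, fun ⟨h₂, _, h₃⟩ => ⟨(hΩV y (hφ h₂)).2 h₃, h₂⟩⟩
      rw [e]
      exact hQ.basicOpen _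
    · obtain ⟨φ, hφ, hwφ⟩ := hQ.exists_basicOpen_le (V := Ω) ⟨w.1, hΩZ w.1 w.2 hw⟩ w.2
      refine ⟨φ, hwφ, ?_⟩
      rw [inf_eq_right.2 hφ]
      exact hQ.basicOpen _
  choose φ hwφ haff using hcov
  have hspan : Ideal.span (Set.range φ) = ⊤ := by
    rw [← hQ.iSup_basicOpen_eq_self_iff]
    refine le_antisymm (iSup_le fun i => G.U.basicOpen_le _) fun w hw => ?_
    exact TopologicalSpace.Opens.mem_iSup.2 ⟨⟨φ ⟨w, hw⟩, ⟨w, hw⟩, rfl⟩, hwφ ⟨w, hw⟩⟩
  let res : Γ(G.U, Q) →+* Γ(G.U, Ω) := (G.U.presheaf.map (homOfLE hΩQ).op).hom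
  refine isAffineOpen_of_isAffineOpen_basicOpen Ω (res '' Set.range φ) ?_ ?_
  · rw [← Ideal.map_span, hspan, Ideal.map_top]
  · rintro _ ⟨_, ⟨w, rfl⟩, rfl⟩
    show IsAffineOpen (G.U.basicOpen (G.U.presheaf.map (homOfLE hΩQ).op (φ w)))
    rw [Scheme.basicOpen_res]
    exact haff w

end Groth.Agent.GrpdDimOne12
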