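import Groth.Agent.GrpdLib.InvGeneric
import Mathlib.AlgebraicGeometry.Noetherian

/-!
# Norms for finite groupoids near points which are generic in an invariant closed set
-/

set_option autoImplicit false
set_option backward.isDefEq.respectTransparency false
set_option backward.isDefEq.respectTransparency.types false

universe u

open CategoryTheory CategoryTheory.Limits AlgebraicGeometry Grpd TensorProduct

namespace Groth.Agent.GrpdDimOne12

open GrpdLib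

/-- Norms near the minimal primes of a closed subset. -/
theorem exists_norm_on_zeroLocus {A B : Type u} [CommRing A] [IsNoetherianRing A] [CommRing B] [Algebra A B]
    [Module.Finite A B] (I : Ideal A) (O : Set (PrimeSpectrum A)) (hO : O.Finite) (hOI : ∀ p ∈ O, I ≤ p.asIdeal)
    (hmin : ∀ p ∈ O, ∀ p' : PrimeSpectrum A, I ≤ p'.asIdeal → p'.asIdeal ≤ p.asIdeal → p' = p) :
    ∃ f : A, (∀ p ∈ O, f ∉ p.asIdeal) ∧ ∀ b : B, ∃ a : A, ∀ p : PrimeSpectrum A, I ≤ p.asIdeal → f ∉ p.asIdeal →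
      (a ∉ p.asIdeal ↔ ∀ q : Ideal B, q.IsPrime → q.comap (algebraMap A B) = p.asIdeal → b ∉ q) := by
  classical
  let π : A →+* A ⧸ I := Ideal.Quotient.mk I
  let J : Ideal B := I.map (algebraMap A B)
  let ρ : B →+* B ⧸ J := Ideal.Quotient.mk J
  letI : Algebra (A ⧸ I) (B ⧸ J) := (Ideal.quotientMap J (algebraMap A B) Ideal.le_comap_map).toAlgebra
  have hcomm : ∀ x : A, algebraMap (A ⧸ I) (B ⧸ J) (π x) = ρ (algebraMap A B x) := fun _ => rfl
  haveI : IsScalarTower A (A ⧸ I) (B ⧸ J) := IsScalarTower.of_algebraMap_eq fun x => (hcomm x).symm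
  haveI : Module.Finite A (B ⧸ J) :=
    Module.Finite.of_surjective (Ideal.Quotient.mkₐ A J).toLinearMap Ideal.Quotient.mk_surjective
  haveI : Module.Finite (A ⧸ I) (B ⧸ J) := Module.Finite.of_restrictScalars_finite A _ _
  haveI : Module.FinitePresentation (A ⧸ I) (B ⧸ J) := Module.finitePresentation_of_finite _ _
  have hc : Function.Injective (PrimeSpectrum.comap π) :=
    PrimeSpectrum.comap_injective_of_surjective π Ideal.Quotient.mk_surjective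
  have hlift : ∀ p : PrimeSpectrum A, I ≤ p.asIdeal → ∃ p' : PrimeSpectrum (A ⧸ I), PrimeSpectrum.comap π p' = p := by
    intro p hp
    have : p ∈ Set.range (PrimeSpectrum.comap π) := by
      rw [range_comap_of_surjective _ π Ideal.Quotient.mk_surjective, Ideal.mk_ker]
      exact hp
    exact this
  obtain ⟨f', hf', hnorm⟩ := exists_norm_near_minimalPrimes (B := B ⧸ J) (PrimeSpectrum.comap π ⁻¹' O)
    (hO.preimage hc.injOn) (fun p hp p' hle => hc (hmin _ hp _ (fun x hx => by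
      show π x ∈ p'.asIdeal
      rw [show π x = 0 from Ideal.Quotient.eq_zero_iff_mem.2 hx]
      exact zero_mem _) (Ideal.comap_mono hle)))
  obtain ⟨f, rfl⟩ := Ideal.Quotient.mk_surjective f'
  refine ⟨f, fun p hp hfp => ?_, fun b => ?_⟩
  · obtain ⟨p', rfl⟩ := hlift p (hOI p hp)
    exact hf' p' hp hfp
  obtain ⟨a', ha⟩ := hnorm (ρ b)
  obtain ⟨a, rfl⟩ := Ideal.Quotient.mk_surjective a'
  refine ⟨a, fun p hpI hfp => ?_⟩
  obtain ⟨p', rfl⟩ := hlift p hpI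
  refine (ha p' hfp).trans ⟨fun h q hq hqp hbq => ?_, fun h q hq hqp => ?_⟩
  · have hJq : J ≤ q := Ideal.map_le_iff_le_comap.2 (hqp ▸ hpI)
    haveI := hq
    have hq' : (q.map ρ).IsPrime := Ideal.map_isPrime_of_surjective Ideal.Quotient.mk_surjective (by rwa [Ideal.mk_ker])
    refine h (q.map ρ) hq' ?_ (Ideal.mem_map_of_mem ρ hbq)
    refine Ideal.comap_injective_of_surjective π Ideal.Quotient.mk_surjective ?_
    rw [Ideal.comap_comap, show (algebraMap (A ⧸ I) (B ⧸ J)).comp π = ρ.comp (algebraMap A B) from RingHom.ext hcomm,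
      ← Ideal.comap_comap, Ideal.comap_map_of_surjective ρ Ideal.Quotient.mk_surjective, ← RingHom.ker_eq_comap_bot,
      Ideal.mk_ker, sup_eq_left.2 hJq, hqp]
    rfl
  · refine h (q.comap ρ) (Ideal.comap_isPrime ρ q) ?_
    rw [Ideal.comap_comap, show ρ.comp (algebraMap A B) = (algebraMap (A ⧸ I) (B ⧸ J)).comp π from
      (RingHom.ext hcomm).symm, ← Ideal.comap_comap, hqp]
    rfl

variable {S : Scheme.{u}} {G : GroupoidScheme S} [IsFinite G.s] [IsLocallyNoetherian G.U]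

/-- Near a finite stable set of generic points of a closed set, the points all whose translates avoid
a zero locus form a basic open. -/
theorem exists_normNhd {W : G.U.Opens} (hW : IsAffineOpen W) {X : G.U.Opens} (hX : IsInv G X) (hXW : X ≤ W)
    {Z : Set G.U} (hZ : IsClosed Z) {O : Set G.U} (hO : O.Finite) (hOX : O ⊆ X) (hOZ : O ⊆ Z)
    (hmax : ∀ x ∈ O, ∀ y ∈ Z, y ⤳ x → y = x) :
    ∃ g₁ : Γ(G.U, W), O ⊆ G.U.basicOpen g₁ ∧ G.U.basicOpen g₁ ≤ X ∧ ∀ g : Γ(G.U, W), ∃ a : Γ(G.U, W),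
      ∀ w ∈ G.U.basicOpen g₁, w ∈ Z → (w ∈ G.U.basicOpen a ↔ ∀ r, G.s r = w → G.t r ∈ G.U.basicOpen g) := by
  classical
  obtain ⟨f, hOf, hfX⟩ := exists_basicOpen_of_finite hW hO X (hOX.trans hXW) hOX
  set D := G.U.basicOpen f with hDdef
  have hD : IsAffineOpen D := hW.basicOpen f
  have hB : IsAffineOpen (G.s ⁻¹ᵁ D) := hD.preimage G.s
  have h1 : (G.s.appLE D (G.s ⁻¹ᵁ D) le_rfl).hom.Finite := by
    rw [← Scheme.Hom.app_eq_appLE]
    exact G.s.finite_app D hD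
  algebraize [(G.s.appLE D (G.s ⁻¹ᵁ D) le_rfl).hom]
  haveI : Module.Finite Γ(G.U, D) Γ(G.R, G.s ⁻¹ᵁ D) := h1
  haveI : IsNoetherianRing Γ(G.U, D) := IsLocallyNoetherian.component_noetherian ⟨D, hD⟩
  obtain ⟨I, hI⟩ := (PrimeSpectrum.isClosed_iff_zeroLocus_ideal _).1 (hZ.preimage hD.fromSpec.continuous)
  have hIp : ∀ p : PrimeSpectrum Γ(G.U, D), hD.fromSpec p ∈ Z ↔ I ≤ p.asIdeal := fun p =>
    Set.ext_iff.1 hI p
  let P : Set (PrimeSpectrum Γ(G.U, D)) := hD.fromSpec ⁻¹' O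
  obtain ⟨f₁, hf₁, hnorm⟩ := exists_norm_on_zeroLocus (B := Γ(G.R, G.s ⁻¹ᵁ D)) I P
    (hO.preimage hD.fromSpec.isOpenEmbedding.injective.injOn) (fun p hp => (hIp p).1 (hOZ hp))
    fun p hp p' hI' hle => by
      apply hD.fromSpec.isOpenEmbedding.injective
      exact hmax _ hp _ ((hIp p').2 hI') (((PrimeSpectrum.le_iff_specializes p' p).1 hle).map hD.fromSpec.continuous)
  obtain ⟨g₁, hg₁⟩ := hW.basicOpen_basicOpen_is_basicOpen f f₁
  refine ⟨g₁, fun x hx => ?_, hg₁ ▸ (G.U.basicOpen_le f₁).trans hfX, fun g => ?_⟩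
  · rw [SetLike.mem_coe, hg₁]
    refine (mem_basicOpen_iff_notMem hD f₁ ⟨x, hOf hx⟩).2 (hf₁ _ ?_)
    show hD.fromSpec _ ∈ O
    rwa [hD.fromSpec_primeIdealOf]
  have hle : G.s ⁻¹ᵁ D ≤ G.t ⁻¹ᵁ W := fun r hr => hXW ((hX.mem_iff r).1 (hfX hr))
  let b : Γ(G.R, G.s ⁻¹ᵁ D) := G.t.appLE W (G.s ⁻¹ᵁ D) hle g
  have hb : ∀ r : G.R, r ∈ G.R.basicOpen b ↔ G.s r ∈ D ∧ G.t r ∈ G.U.basicOpen g := fun r => by
    rw [Scheme.basicOpen_appLE]
    exact Iff.rfl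
  obtain ⟨a₀, ha⟩ := hnorm b
  obtain ⟨a, hae⟩ := hW.basicOpen_basicOpen_is_basicOpen f a₀
  refine ⟨a, fun w hw hwZ => ?_⟩
  rw [hg₁] at hw
  have hwD : w ∈ D := G.U.basicOpen_le _ hw
  have hwI : I ≤ (hD.primeIdealOf ⟨w, hwD⟩).asIdeal := (hIp _).1 (by rwa [hD.fromSpec_primeIdealOf])
  rw [hae, mem_basicOpen_iff_notMem hD a₀ ⟨w, hwD⟩,
    ha _ hwI ((mem_basicOpen_iff_notMem hD f₁ ⟨w, hwD⟩).1 hw)]
  constructor
  · intro h r hr
    have hrB : r ∈ G.s ⁻¹ᵁ D := by show G.s r ∈ D; rw [hr]; exact hwD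
    subst hr
    have := h _ (hB.primeIdealOf ⟨r, hrB⟩).isPrime (congrArg PrimeSpectrum.asIdeal
      (IsAffineOpen.comap_primeIdealOf_appLE D hD (G.s ⁻¹ᵁ D) hB le_rfl hrB))
    exact ((hb r).1 ((mem_basicOpen_iff_notMem hB b ⟨r, hrB⟩).2 this)).2
  · intro h q hq hqw
    let r : G.R := hB.fromSpec ⟨q, hq⟩
    have hrB : r ∈ G.s ⁻¹ᵁ D := hB.range_fromSpec.le ⟨_, rfl⟩
    have hQ : hB.primeIdealOf ⟨r, hrB⟩ = ⟨q, hq⟩ :=
      hB.fromSpec.isOpenEmbedding.injective (by rw [hB.fromSpec_primeIdealOf])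
    have hsr : G.s r = w := by
      have := IsAffineOpen.comap_primeIdealOf_appLE D hD (G.s ⁻¹ᵁ D) hB le_rfl hrB
      rw [hQ] at this
      have e : hD.primeIdealOf ⟨w, hwD⟩ = hD.primeIdealOf ⟨G.s r, hrB⟩ := by
        rw [← this]
        exact PrimeSpectrum.ext hqw.symm
      have := congrArg hD.fromSpec e
      rw [hD.fromSpec_primeIdealOf, hD.fromSpec_primeIdealOf] at this
      exact this.symm
    have := (mem_basicOpen_iff_notMem hB b ⟨r, hrB⟩).1 ((hb r).2 ⟨hrB, h r hsr⟩)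
    rwa [hQ] at this

/-- A stable set of generic points of an invariant closed set has a basic open neighbourhood whose
trace on the closed set is invariant. -/
theorem exists_invTrace {W : G.U.Opens} (hW : IsAffineOpen W) {X : G.U.Opens} (hX : IsInv G X) (hXW : X ≤ W)
    {Z : Set G.U} (hZ : IsClosed Z) (hZinv : ∀ r : G.R, G.s r ∈ Z → G.t r ∈ Z) {O : Set G.U} (hO : O.Finite)
    (horb : ∀ r : G.R, G.s r ∈ O → G.t r ∈ O) (hOX : O ⊆ X) (hOZ : O ⊆ Z)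
    (hmax : ∀ x ∈ O, ∀ y ∈ Z, y ⤳ x → y = x) :
    ∃ q : Γ(G.U, W), O ⊆ G.U.basicOpen q ∧ G.U.basicOpen q ≤ X ∧
      (∀ r : G.R, G.s r ∈ Z → G.s r ∈ G.U.basicOpen q → G.t r ∈ G.U.basicOpen q) ∧
      ∀ g : Γ(G.U, W), ∃ a : Γ(G.U, W), ∀ w ∈ G.U.basicOpen q, w ∈ Z →
        (w ∈ G.U.basicOpen a ↔ ∀ r, G.s r = w → G.t r ∈ G.U.basicOpen g) := by
  obtain ⟨g₁, hO₁, hX₁, hnorm⟩ := exists_normNhd hW hX hXW hZ hO hOX hOZ hmax
  let T : G.U.Opens := invCore G ⟨(G.U.basicOpen g₁ : Set G.U) ∪ Zᶜ, (G.U.basicOpen g₁).isOpen.union hZ.isOpen_compl⟩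
  obtain ⟨g₂, hO₂, hT⟩ := exists_basicOpen_of_finite hW hO T (hOX.trans hXW) fun x hx =>
    mem_invCore.2 fun r hr => Or.inl (hO₁ (horb r (hr ▸ hx)))
  obtain ⟨a, ha⟩ := hnorm g₂
  have hq : G.U.basicOpen (g₁ * g₂ * a) = G.U.basicOpen g₁ ⊓ G.U.basicOpen g₂ ⊓ G.U.basicOpen a := by
    rw [Scheme.basicOpen_mul, Scheme.basicOpen_mul]
  refine ⟨g₁ * g₂ * a, fun x hx => ?_, ?_, fun r hrZ hr => ?_, fun g => ?_⟩
  · rw [SetLike.mem_coe, hq]
    exact ⟨⟨hO₁ hx, hO₂ hx⟩, (ha x (hO₁ hx) (hOZ hx)).2 fun r hr => hO₂ (horb r (hr ▸ hx))⟩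
  · rw [hq]
    exact (inf_le_left.trans inf_le_left).trans hX₁
  · rw [hq] at hr ⊢
    obtain ⟨⟨h₁, h₂⟩, ha'⟩ := hr
    have ht : G.t r ∈ Z := hZinv r hrZ
    have ht₂ : G.t r ∈ G.U.basicOpen g₂ := (ha _ h₁ hrZ).1 ha' r rfl
    have ht₁ : G.t r ∈ G.U.basicOpen g₁ := (mem_invCore.1 (hT h₂) r rfl).resolve_right (not_not_intro ht)
    refine ⟨⟨ht₁, ht₂⟩, (ha _ ht₁ ht).2 fun r' hr' => ?_⟩
    obtain ⟨r'', h₁', h₂'⟩ := exists_comp G r' r hr'
    rw [← h₁']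
    exact (ha _ h₁ hrZ).1 ha' r'' h₂'
  · obtain ⟨a', ha'⟩ := hnorm g
    refine ⟨a', fun w hw => ha' w ?_⟩
    rw [hq] at hw
    exact hw.1.1

end Groth.Agent.GrpdDimOne12
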